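import Groth.Prelude.Def_HTor
import Mathlib.LinearAlgebra.Quotient.Basic
import Mathlib.LinearAlgebra.Isomorphisms
import Mathlib.Algebra.Module.Submodule.Map
import Mathlib.Algebra.Group.Subgroup.Basic

/-!
# The filtration of an augmented double complex with exact rows

Rows exact away from degree zero; the abutment is recorded by a relation between degree-zero
bicycles and classes.
-/

set_option autoImplicit false

universe u

namespace Groth.Agent.CechSSFilt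

/-- A subquotient from a surjection `φ` and a map `ψ` whose kernel is killed by `φ`. -/
theorem isSubquotient_of_maps {M N T : Type u} [AddCommGroup M] [AddCommGroup N] [AddCommGroup T]
    [Module ℤ N] [Module ℤ T] (φ : M →+ N) (ψ : M →+ T) (hφ : Function.Surjective φ)
    (h : ∀ x, ψ x = 0 → φ x = 0) : HTor.IsSubquotient ℤ N T := by
  classical
  obtain rfl : ‹Module ℤ T› = AddCommGroup.toIntModule T := Subsingleton.elim _ _
  obtain rfl : ‹Module ℤ N› = AddCommGroup.toIntModule N := Subsingleton.elim _ _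
  let S : Submodule ℤ T := AddSubgroup.toIntSubmodule (φ.ker.map ψ)
  let S' : Submodule ℤ T := AddSubgroup.toIntSubmodule ψ.range
  have hle : S ≤ S' := by
    rintro y ⟨x, -, rfl⟩
    exact ⟨x, rfl⟩
  refine ⟨S, S', hle, ?_⟩
  let q : M →+ (↥S' ⧸ Submodule.comap S'.subtype S) :=
    (Submodule.comap S'.subtype S).mkQ.toAddMonoidHom.comp
      (AddMonoidHom.mk' (fun x => (⟨ψ x, x, rfl⟩ : S')) fun a b => Subtype.ext (map_add ψ a b))
  have hq : Function.Surjective q := fun z => by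
    obtain ⟨⟨y, x, rfl⟩, rfl⟩ := Submodule.Quotient.mk_surjective _ z
    exact ⟨x, rfl⟩
  have hk : φ.ker = q.ker := by
    ext x
    refine ⟨fun hx => ?_, fun hx => ?_⟩
    · exact (Submodule.Quotient.mk_eq_zero (Submodule.comap S'.subtype S)).2 ⟨x, hx, rfl⟩
    · obtain ⟨x', hx', e⟩ := (Submodule.Quotient.mk_eq_zero (Submodule.comap S'.subtype S)).1 hx
      have hx'' : φ (x - x') = 0 := h _ (by rw [map_sub]; exact sub_eq_zero.2 e.symm)
      rw [map_sub, show φ x' = 0 from hx', sub_zero] at hx''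
      exact hx''
  exact ⟨(((QuotientAddGroup.quotientKerEquivOfSurjective φ hφ).symm.trans
    (QuotientAddGroup.quotientAddEquivOfEq hk)).trans
    (QuotientAddGroup.quotientKerEquivOfSurjective q hq)).toIntLinearEquiv⟩

/-- An augmented double complex with exact rows, with the classes of its bicycles on the edge. -/
structure Data (n : ℤ) (H : Type u) [AddCommGroup H] where
  /-- the terms -/
  A : ℕ → ℤ → Type u
  /-- the terms are groups -/
  [grp : ∀ p m, AddCommGroup (A p m)]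
  /-- the horizontal differential -/
  dh : ∀ p m, A p m →+ A (p + 1) m
  /-- the vertical differential -/
  dv : ∀ p m m', A p m →+ A p m'
  comm : ∀ p m m' (x : A p m), dv (p + 1) m m' (dh p m x) = dh p m' (dv p m m' x)
  dh_dh : ∀ p m (x : A p m), dh (p + 1) m (dh p m x) = 0
  dv_dv : ∀ p m m' m'' (x : A p m), dv p m' m'' (dv p m m' x) = 0
  exact : ∀ p m (x : A (p + 1) m), dh (p + 1) m x = 0 → ∃ y, dh p m y = x
  /-- classes of bicycles on the edge -/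
  base : AddSubgroup (A 0 n × H)
  base_ex : ∀ x, dh 0 n x = 0 → dv 0 n (n + 1) x = 0 → ∃ ξ, (x, ξ) ∈ base
  base_surj : ∀ ξ, ∃ x, dh 0 n x = 0 ∧ dv 0 n (n + 1) x = 0 ∧ (x, ξ) ∈ base
  base_zero : ∀ m w ξ, m + 1 = n → dh 0 m w = 0 → (dv 0 m n w, ξ) ∈ base → ξ = 0

namespace Data

attribute [instance] Data.grp

variable {n : ℤ} {H : Type u} [AddCommGroup H] (D : Data n H)

/-- `x` abuts to `ξ`. -/
def R : ∀ (p : ℕ) (m : ℤ), D.A p m → H → Prop
  | 0, m, x, ξ => ∃ h : m = n, (cast (congrArg (D.A 0) h) x, ξ) ∈ D.base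
  | p + 1, m, x, ξ => ∃ y, D.dh p m y = x ∧ R p (m + 1) (D.dv p m (m + 1) y) ξ

lemma R_zero : ∀ (p : ℕ) (m : ℤ), m + p = n → D.R p m 0 0
  | 0, m, h => by
    obtain rfl : m = n := by simpa using h
    exact ⟨rfl, D.base.zero_mem⟩
  | p + 1, m, h => ⟨0, map_zero _, by rw [map_zero]; exact R_zero p (m + 1) (by push_cast at h; omega)⟩

lemma R_sub : ∀ {p : ℕ} {m : ℤ} {x x' : D.A p m} {ξ ξ' : H},
    D.R p m x ξ → D.R p m x' ξ' → D.R p m (x - x') (ξ - ξ')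
  | 0, m, x, x', ξ, ξ', ⟨h, hx⟩, ⟨_, hx'⟩ => by
    subst h
    exact ⟨rfl, D.base.sub_mem hx hx'⟩
  | p + 1, m, x, x', ξ, ξ', ⟨y, hy, hR⟩, ⟨y', hy', hR'⟩ =>
    ⟨y - y', by rw [map_sub, hy, hy'], by rw [map_sub]; exact R_sub hR hR'⟩

lemma R_add {p : ℕ} {m : ℤ} (hmn : m + p = n) {x x' : D.A p m} {ξ ξ' : H}
    (h : D.R p m x ξ) (h' : D.R p m x' ξ') : D.R p m (x + x') (ξ + ξ') := by
  simpa using D.R_sub h (D.R_sub (D.R_zero p m hmn) h')

lemma R_ex : ∀ (p : ℕ) (m : ℤ) (x : D.A p m), m + p = n → D.dh p m x = 0 →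
    D.dv p m (m + 1) x = 0 → ∃ ξ, D.R p m x ξ
  | 0, m, x, h, h1, h2 => by
    obtain rfl : m = n := by simpa using h
    obtain ⟨ξ, hξ⟩ := D.base_ex x h1 h2
    exact ⟨ξ, rfl, hξ⟩
  | p + 1, m, x, h, h1, h2 => by
    obtain ⟨y, rfl⟩ := D.exact p m x h1
    obtain ⟨ξ, hξ⟩ := R_ex p (m + 1) (D.dv p m (m + 1) y) (by push_cast at h; omega)
      (by rw [← D.comm, h2]) (D.dv_dv _ _ _ _ y)
    exact ⟨ξ, y, rfl, hξ⟩

lemma R_dv_eq_zero : ∀ (p : ℕ) (m m' : ℤ) (w : D.A p m) (ξ : H), m + 1 = m' →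
    D.dh p m w = 0 → D.R p m' (D.dv p m m' w) ξ → ξ = 0
  | 0, m, m', w, ξ, h, h1, ⟨e, hR⟩ => by
    subst e
    exact D.base_zero m w ξ h h1 hR
  | p + 1, m, m', w, ξ, h, h1, ⟨y, hy, hR⟩ => by
    subst h
    obtain ⟨v, rfl⟩ := D.exact p m w h1
    refine R_dv_eq_zero p (m + 1) (m + 1 + 1) (y - D.dv p m (m + 1) v) ξ rfl ?_ ?_
    · rw [map_sub, hy, D.comm, sub_self]
    · rw [map_sub, D.dv_dv, sub_zero]; exact hR

lemma R_eq_zero {p : ℕ} {m : ℤ} {ξ : H} (h : D.R p m 0 ξ) : ξ = 0 :=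
  D.R_dv_eq_zero p (m - 1) m 0 ξ (by omega) (map_zero _) (by rwa [map_zero])

/-- The bicycles at a spot. -/
def cyc (p : ℕ) (m : ℤ) : AddSubgroup (D.A p m) := (D.dh p m).ker ⊓ (D.dv p m (m + 1)).ker

/-- The class of a bicycle. -/
noncomputable def cls (p : ℕ) (m : ℤ) (h : m + p = n) : D.cyc p m →+ H :=
  AddMonoidHom.mk' (fun x => (D.R_ex p m x h x.2.1 x.2.2).choose) fun a b => by
    have ha := (D.R_ex p m a h a.2.1 a.2.2).choose_spec
    have hb := (D.R_ex p m b h b.2.1 b.2.2).choose_spec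
    have hab := (D.R_ex p m (a + b : D.cyc p m) h (a + b).2.1 (a + b).2.2).choose_spec
    refine sub_eq_zero.1 (D.R_eq_zero (p := p) (m := m) ?_)
    simpa using D.R_sub hab (D.R_add h ha hb)

lemma R_cls (p : ℕ) (m : ℤ) (h : m + p = n) (x : D.cyc p m) : D.R p m x (D.cls p m h x) :=
  (D.R_ex p m x h x.2.1 x.2.2).choose_spec

lemma cls_eq (p : ℕ) (m : ℤ) (h : m + p = n) (x : D.cyc p m) {ξ : H} (hx : D.R p m x ξ) :
    D.cls p m h x = ξ :=
  sub_eq_zero.1 (D.R_eq_zero (p := p) (m := m) (by simpa using D.R_sub (D.R_cls p m h x) hx))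

/-- The filtration of the abutment. -/
noncomputable def G (p : ℕ) : Submodule ℤ H := AddSubgroup.toIntSubmodule (D.cls p (n - p) (by omega)).range

lemma mem_G {p : ℕ} {ξ : H} : ξ ∈ D.G p ↔
    ∃ m, m + p = n ∧ ∃ x : D.A p m, D.dh p m x = 0 ∧ D.dv p m (m + 1) x = 0 ∧ D.R p m x ξ := by
  refine ⟨fun ⟨x, hx⟩ => ⟨n - p, by omega, x, x.2.1, x.2.2, hx ▸ D.R_cls p _ (by omega) x⟩, ?_⟩
  rintro ⟨m, hm, x, h1, h2, h⟩
  obtain rfl : m = n - p := by omega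
  exact ⟨⟨x, h1, h2⟩, D.cls_eq p _ (by omega) _ h⟩

lemma G_anti : Antitone D.G := antitone_nat_of_succ_le fun p ξ hξ => by
  obtain ⟨m, hm, x, h1, h2, y, hy, hR⟩ := D.mem_G.1 hξ
  exact D.mem_G.2 ⟨m + 1, by push_cast at hm; omega, D.dv p m (m + 1) y,
    by rw [← D.comm, hy, h2], D.dv_dv _ _ _ _ y, hR⟩

lemma G_zero : D.G 0 = ⊤ := eq_top_iff.2 fun ξ _ => by
  obtain ⟨x, h1, h2, h⟩ := D.base_surj ξ
  exact D.mem_G.2 ⟨n, by simp, x, h1, h2, rfl, h⟩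

lemma G_eq_bot (p : ℕ) (h : ∀ m, m + p = n → Subsingleton (D.A p m)) : D.G p = ⊥ :=
  eq_bot_iff.2 fun ξ hξ => by
    obtain ⟨m, hm, x, -, -, hR⟩ := D.mem_G.1 hξ
    have := h m hm
    rw [Subsingleton.elim x 0] at hR
    exact D.R_eq_zero hR

lemma mem_G_one {ξ : H} : ξ ∈ D.G 1 ↔ ∃ (x : D.A 0 n) (y : D.A 0 (n - 1)),
    D.dh 0 n x = 0 ∧ (x, ξ) ∈ D.base ∧ D.dv 0 (n - 1) n y = x := by
  rw [D.mem_G]
  constructor
  · rintro ⟨m, hm, x, h1, h2, y, hy, ⟨e, hR⟩⟩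
    obtain rfl : m = n - 1 := by push_cast at hm; omega
    have key : ∀ (k : ℤ) (e : k = n), D.dh 0 k (D.dv 0 (n - 1) k y) = 0 →
        (cast (congrArg (D.A 0) e) (D.dv 0 (n - 1) k y), ξ) ∈ D.base → D.dh 0 n (D.dv 0 (n - 1) n y) = 0 ∧
          (D.dv 0 (n - 1) n y, ξ) ∈ D.base := by
      rintro k rfl a b; exact ⟨a, b⟩
    have := key _ e (by rw [← D.comm, hy, h2]) hR
    exact ⟨_, y, this.1, this.2, rfl⟩
  · rintro ⟨x, y, h1, hR, rfl⟩
    refine ⟨n - 1, by omega, D.dh 0 (n - 1) y, D.dh_dh _ _ y, ?_, y, rfl, ?_⟩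
    · have key : ∀ k, k = n → D.dv (0 + 1) (n - 1) k (D.dh 0 (n - 1) y) = 0 := by
        rintro k rfl; rw [D.comm, h1]
      exact key _ (by omega)
    · have key : ∀ k (e : k = n), (cast (congrArg (D.A 0) e) (D.dv 0 (n - 1) k y), ξ) ∈ D.base := by
        rintro k rfl; exact hR
      exact ⟨by omega, key _ (by omega)⟩

/-- The graded pieces are subquotients of any group receiving the bicycles with kernel the boundaries
modulo lower terms. -/
theorem isSubquotient (p : ℕ) {m : ℤ} (hm : m + p = n) {M T : Type u} [AddCommGroup M]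
    [AddCommGroup T] [Module ℤ T] (ι : M →+ D.A p m) (hι : ∀ u, ι u ∈ D.cyc p m)
    (hι' : ∀ x ∈ D.cyc p m, ∃ u, ι u = x) (ψ : M →+ T)
    (h0 : ∀ u, p = 0 → ψ u = 0 → ∃ w : D.A p (m - 1), D.dv p (m - 1) m w = ι u)
    (h1 : ∀ u p', p = p' + 1 → ψ u = 0 → ∃ (z : D.A p' m) (w : D.A (p' + 1) (m - 1)),
      D.dv p' m (m + 1) z = 0 ∧ HEq (D.dh p' m z + D.dv (p' + 1) (m - 1) m w) (ι u)) :
    HTor.IsSubquotient ℤ (HTor.grDesc D.G p) T := by
  let g : M →+ D.G p := AddMonoidHom.mk'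
    (fun u => ⟨D.cls p m hm ⟨ι u, hι u⟩, D.mem_G.2 ⟨m, hm, ι u, (hι u).1, (hι u).2, D.R_cls p m hm ⟨ι u, hι u⟩⟩⟩)
    fun a b => Subtype.ext ((congrArg (D.cls p m hm) (Subtype.ext (map_add ι a b) :
      (⟨ι (a + b), hι _⟩ : D.cyc p m) = ⟨ι a, hι a⟩ + ⟨ι b, hι b⟩)).trans (map_add _ _ _))
  refine isSubquotient_of_maps ((Submodule.mkQ _).toAddMonoidHom.comp g) ψ ?_ fun u hu => ?_
  · intro z
    obtain ⟨⟨ξ, hξ⟩, rfl⟩ := Submodule.Quotient.mk_surjective _ z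
    obtain ⟨m', hm', x, hx1, hx2, hR⟩ := D.mem_G.1 hξ
    obtain rfl : m' = m := by omega
    obtain ⟨u, hu⟩ := hι' x ⟨hx1, hx2⟩
    subst hu
    exact ⟨u, congrArg (Submodule.mkQ _) (Subtype.ext (D.cls_eq _ _ hm ⟨ι u, hι u⟩ hR))⟩
  refine (Submodule.Quotient.mk_eq_zero _).2 ?_
  show D.cls p m hm ⟨ι u, hι u⟩ ∈ D.G (p + 1)
  have step : ∀ (w : D.A p (m - 1)), D.dh p m (D.dv p (m - 1) m w) = 0 → ∀ ξ,
      D.R p m (D.dv p (m - 1) m w) ξ → ξ ∈ D.G (p + 1) := by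
    intro w hw ξ hR
    have key : ∀ k, k = m → D.R p k (D.dv p (m - 1) k w) ξ ∧
        D.dv (p + 1) (m - 1) k (D.dh p (m - 1) w) = 0 := by
      rintro k rfl; exact ⟨hR, by rw [D.comm, hw]⟩
    exact D.mem_G.2 ⟨m - 1, by push_cast; omega, D.dh p (m - 1) w, D.dh_dh _ _ w,
      (key _ (by omega)).2, w, rfl, (key _ (by omega)).1⟩
  rcases Nat.eq_zero_or_eq_succ_pred p with hp | hp
  · obtain ⟨w, hw⟩ := h0 u hp hu
    refine step w (hw ▸ (hι u).1) _ ?_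
    rw [hw]; exact D.R_cls p m hm ⟨ι u, hι u⟩
  · obtain ⟨p', rfl⟩ : ∃ p', p = p' + 1 := ⟨_, hp⟩
    obtain ⟨z, w, hz, e⟩ := h1 u p' rfl hu
    have e := eq_of_heq e
    have hR0 : D.R (p' + 1) m (D.dh p' m z) 0 :=
      ⟨z, rfl, by rw [hz]; exact D.R_zero p' (m + 1) (by push_cast at hm; omega)⟩
    have hRw := D.R_sub (D.R_cls (p' + 1) m hm ⟨ι u, hι u⟩) hR0
    have e' : ι u - D.dh p' m z = D.dv (p' + 1) (m - 1) m w := by rw [← e]; abel
    simp only [e', sub_zero] at hRw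
    refine step w ?_ _ hRw
    rw [← e', map_sub, D.dh_dh, sub_zero]
    exact (hι u).1

end Data

end Groth.Agent.CechSSFilt
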