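import Groth.Agent.CechSSFilt.Abstract
import Groth.Agent.SiteBase.CechInst
import Groth.Agent.SiteBase.KInjSections
import Groth.Prelude.Def_CohB1

/-!
# The Cech-to-hypercohomology filtration for a bounded below complex of injectives
-/

set_option autoImplicit false
set_option backward.isDefEq.respectTransparency false
set_option backward.isDefEq.respectTransparency.types false

universe u

open CategoryTheory CategoryTheory.Limits Opposite TopologicalSpace

namespace Groth.Agent.CechSSFilt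

open Groth.Agent.SiteBase

lemma exists_iCycles_eq {K : CochainComplex AddCommGrpCat.{u} ℕ} (p : ℕ) (x : K.X p)
    (hx : (K.d p (p + 1)).hom x = 0) : ∃ z : K.cycles p, (K.iCycles p).hom z = x :=
  (ShortComplex.ab_exact_iff _).1 (ShortComplex.exact_of_f_is_kernel
    (ShortComplex.mk (K.iCycles p) (K.d p (p + 1)) (K.iCycles_d p (p + 1)))
    (K.cyclesIsKernel p (p + 1) (by simp))) x hx

lemma homologyπ_eq_zero {K : CochainComplex AddCommGrpCat.{u} ℕ} (p : ℕ) (z : K.cycles (p + 1))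
    (hz : (K.homologyπ (p + 1)).hom z = 0) :
    ∃ e : K.X p, (K.d p (p + 1)).hom e = (K.iCycles (p + 1)).hom z := by
  obtain ⟨e, rfl⟩ := (ShortComplex.ab_exact_iff _).1 (ShortComplex.exact_of_g_is_cokernel
    (ShortComplex.mk (K.toCycles p (p + 1)) (K.homologyπ (p + 1)) (by simp))
    (K.homologyIsCokernel p (p + 1) (by simp))) z hz
  exact ⟨e, (ConcreteCategory.congr_hom (K.toCycles_i p (p + 1)) e).symm⟩

lemma homologyπ_zero_eq_zero {K : CochainComplex AddCommGrpCat.{u} ℕ} (z : K.cycles 0)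
    (hz : (K.homologyπ 0).hom z = 0) : z = 0 := by
  have : IsIso (K.homologyπ 0) := K.isIso_homologyπ _ 0 rfl (by simp)
  exact (ConcreteCategory.bijective_of_isIso (K.homologyπ 0)).1 (hz.trans (map_zero _).symm)

variable {X : TopCat.{u}} {ι : Type u} (U : ι → Opens X)

/-- The Cech complex functor on presheaves of abelian groups. -/
noncomputable abbrev Cx : ((Opens X)ᵒᵖ ⥤ AddCommGrpCat.{u}) ⥤ CochainComplex AddCommGrpCat.{u} ℕ :=
  cechComplexFunctor U

lemma exists_lift_cmap {P Q : (Opens X)ᵒᵖ ⥤ AddCommGrpCat.{u}} (φ : P ⟶ Q) (p : ℕ)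
    (x : ((Cx U).obj Q).X p)
    (h : ∀ i, ∃ t, (φ.app (op (∏ᶜ fun k => U (i k)))).hom t = cev U Q p i x) :
    ∃ u, (((Cx U).map φ).f p).hom u = x := by
  choose t ht using h
  obtain ⟨u, hu⟩ := exists_cev U P t
  exact ⟨u, cev_ext U Q fun i => (cev_map U P φ p i u).trans ((congrArg _ (hu i)).trans (ht i))⟩

lemma cmap_injective {P Q : (Opens X)ᵒᵖ ⥤ AddCommGrpCat.{u}} (φ : P ⟶ Q) (p : ℕ)
    (h : ∀ V, Function.Injective (φ.app (op V)).hom) : Function.Injective (((Cx U).map φ).f p).hom :=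
  fun a b hab => cev_ext U P fun i => h _
    ((cev_map U P φ p i a).symm.trans ((congrArg (cev U Q p i) hab).trans (cev_map U P φ p i b)))

lemma cmap_d {P Q : (Opens X)ᵒᵖ ⥤ AddCommGrpCat.{u}} (φ : P ⟶ Q) (p q : ℕ) (u : ((Cx U).obj P).X p) :
    (((Cx U).obj Q).d p q).hom ((((Cx U).map φ).f p).hom u) = (((Cx U).map φ).f q).hom ((((Cx U).obj P).d p q).hom u) :=
  ConcreteCategory.congr_hom (((Cx U).map φ).comm p q) u

lemma cmap_cmap_eq_zero {P Q R : (Opens X)ᵒᵖ ⥤ AddCommGrpCat.{u}} (φ : P ⟶ Q) (ψ : Q ⟶ R) (h : φ ≫ ψ = 0)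
    (p : ℕ) (u : ((Cx U).obj P).X p) : (((Cx U).map ψ).f p).hom ((((Cx U).map φ).f p).hom u) = 0 := by
  refine cev_ext U R fun i => ?_
  rw [cev_map, cev_map, map_zero]
  exact ConcreteCategory.congr_hom (NatTrans.congr_app h (op (∏ᶜ fun k => U (i k)))) _

variable {c : CechCtx (𝟭 (Opens X)) (⊤ : Opens X) U}

lemma res0_map {F F' : CohTop.Ab X} (g : F ⟶ F') (t : F.obj.obj (op ⊤)) :
    (((Cx U).map g.hom).f 0).hom ((res0Hom c F).hom t) = (res0Hom c F').hom ((g.hom.app (op ⊤)).hom t) := by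
  refine comp0_ext U _ (funext fun i => ?_)
  refine (comp0_map U F.obj g.hom _ i).trans ?_
  refine (congrArg _ (congrFun (comp0_res0Hom c F t) i)).trans ?_
  refine Eq.trans ?_ (congrFun (comp0_res0Hom c F' _) i).symm
  exact ConcreteCategory.congr_hom (g.hom.naturality (c.s i).op) t

lemma res0Hom_injective (hc : c.sieve ∈ Opens.grothendieckTopology X ⊤) {F : CohTop.Ab X}
    {t t' : F.obj.obj (op ⊤)} (h : (res0Hom c F).hom t = (res0Hom c F).hom t') : t = t' := by
  refine res0_injective c hc fun i => ?_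
  have := congrArg (fun z => comp0 U F.obj z i) h
  exact (congrFun (comp0_res0Hom c F t) i).symm.trans (this.trans (congrFun (comp0_res0Hom c F t') i))

lemma exists_res0Hom (hc : c.sieve ∈ Opens.grothendieckTopology X ⊤) {F : CohTop.Ab X}
    (x : ((Cx U).obj F.obj).X 0) (hx : (((Cx U).obj F.obj).d 0 1).hom x = 0) :
    ∃ t, (res0Hom c F).hom t = x := by
  obtain ⟨t, ht⟩ := exists_glue c hc (F := F) x hx
  exact ⟨t, comp0_ext U _ ((comp0_res0Hom c F t).trans (funext ht))⟩

variable [HasDerivedCategory.{u} (CohTop.Ab X)] (L : CochainComplex (CohTop.Ab X) ℤ) [L.IsKInjective]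
  {K : DerivedCategory (CohTop.Ab X)}
  (π : ∀ q : ℤ, (KInjSections.preCx L).cycles q ⟶ CohCx.HDUPresheaf K q)
  (hsurj : ∀ q V, Function.Surjective ((π q).app (op V)).hom)
  (hker : ∀ q V z, ((π q).app (op V)).hom z = 0 ↔
    ∃ y, ((L.d (q - 1) q).hom.app (op V)).hom y = (((KInjSections.preCx L).iCycles q).app (op V)).hom z)

variable (c) in
/-- The edge classes. -/
noncomputable def edge (n : ℤ) :
    AddSubgroup (((Cx U).obj (L.X n).obj).X 0 × CohCx.HDU K n (⊤ : Opens X)) :=
  ((((res0Hom c (L.X n)).hom).comp (((KInjSections.preCx L).iCycles n).app (op ⊤)).hom).prod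
    ((π n).app (op ⊤)).hom).range

/-- The augmented double complex. -/
noncomputable def data (n : ℤ) (hc : c.sieve ∈ Opens.grothendieckTopology X ⊤) [∀ q, Injective (L.X q)] :
    Data n (CohCx.HDU K n (⊤ : Opens X)) where
  A p m := ((Cx U).obj (L.X m).obj).X p
  dh p m := (((Cx U).obj (L.X m).obj).d p (p + 1)).hom
  dv p m m' := (((Cx U).map (L.d m m').hom).f p).hom
  comm p m m' x := (cmap_d U _ p (p + 1) x).symm
  dh_dh p m x := d_d_apply _ _ _ x
  dv_dv p m m' m'' x := cmap_cmap_eq_zero U _ _ (congrArg (fun g : L.X m ⟶ L.X m'' => g.hom) (L.d_comp_d m m' m'')) p x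
  exact p m x hx := exists_preimage_of_exactAt (injAcyclic_opens U (L.X m) inferInstance p) x hx
  base := edge U c L π n
  base_ex x h1 h2 := by
    obtain ⟨t, rfl⟩ := exists_res0Hom U hc x h1
    have ht : ((L.d n (n + 1)).hom.app (op ⊤)).hom t = 0 :=
      res0Hom_injective U hc ((res0_map U (L.d n (n + 1)) t).symm.trans (h2.trans (map_zero _).symm))
    obtain ⟨z, rfl⟩ := KInjSections.exists_cycle L n ⊤ t ht
    exact ⟨_, z, rfl⟩
  base_surj ξ := by
    obtain ⟨z, rfl⟩ := hsurj n ⊤ ξ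
    refine ⟨_, ConcreteCategory.congr_hom (res0Hom_d c (L.X n)) _, ?_, z, rfl⟩
    exact (res0_map U (L.d n (n + 1)) _).trans ((congrArg (res0Hom c (L.X (n + 1))).hom
      (ConcreteCategory.congr_hom (NatTrans.congr_app ((KInjSections.preCx L).iCycles_d n (n + 1)) (op ⊤)) z)).trans
        (map_zero _))
  base_zero m w ξ hm hw := by
    rintro ⟨z, hz⟩
    obtain ⟨h1, rfl⟩ := Prod.mk.injEq .. ▸ hz
    obtain rfl : m = n - 1 := by omega
    obtain ⟨t, rfl⟩ := exists_res0Hom U hc w hw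
    exact (hker n ⊤ z).2 ⟨t, res0Hom_injective U hc ((res0_map U (L.d (n - 1) n) t).symm.trans h1.symm)⟩

include hsurj hker in
theorem main [∀ q, Injective (L.X q)] (a : ℤ) (ha : ∀ q, q < a → IsZero (L.X q)) (hcov : iSup U = ⊤) (n : ℤ) :
    ∃ (N : ℕ) (G : ℕ → Submodule ℤ (CohCx.HDU K n (⊤ : Opens X))),
      Antitone G ∧ G 0 = ⊤ ∧ G N = ⊥ ∧
      G 1 = ⨅ i, AddSubgroup.toIntSubmodule (CohCx.HDUres K n (homOfLE le_top : U i ⟶ (⊤ : Opens X))).ker ∧
      ∀ p : ℕ, HTor.IsSubquotient ℤ (HTor.grDesc G p) (CohB1.cechHTop U (CohCx.HDUPresheaf K (n - p)) p) := by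
  obtain ⟨c, hc, -⟩ := exists_ctxOpens U hcov ⊤ fun i => ⟨homOfLE le_top, trivial⟩
  let D := data U L π hsurj hker n hc
  refine ⟨(n - a + 1).toNat, D.G, D.G_anti, D.G_zero, D.G_eq_bot _ fun m hm => ?_, ?_, fun p => ?_⟩
  · have hz : IsZero (L.X m).obj := (sheafToPresheaf _ _).map_isZero (ha m (by omega))
    exact ⟨fun x y => cev_ext U _ fun i =>
      (AddCommGrpCat.subsingleton_of_isZero ((Functor.isZero_iff _).1 hz _)).elim _ _⟩
  · ext ξ
    simp only [Submodule.mem_iInf]
    refine (D.mem_G_one).trans ⟨?_, fun h => ?_⟩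
    · rintro ⟨x, y, -, ⟨z, hz⟩, hy⟩ i
      obtain ⟨h1, rfl⟩ := Prod.mk.injEq .. ▸ hz
      refine (ConcreteCategory.congr_hom ((π n).naturality (homOfLE le_top : U i ⟶ (⊤ : Opens X)).op) z).symm.trans ?_
      refine (hker n (U i) _).2 ⟨comp0 U (L.X (n - 1)).obj y i, ?_⟩
      refine (comp0_map U _ (L.d (n - 1) n).hom y i).symm.trans ?_
      refine (congrArg (fun w => comp0 U (L.X n).obj w i) (hy.trans h1.symm)).trans ?_
      refine (congrFun (comp0_res0Hom c (L.X n) _) i).trans ?_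
      rw [Subsingleton.elim (c.s i) (homOfLE le_top)]
      exact (ConcreteCategory.congr_hom (((KInjSections.preCx L).iCycles n).naturality
        (homOfLE le_top : U i ⟶ (⊤ : Opens X)).op) z).symm
    · obtain ⟨z, rfl⟩ := hsurj n ⊤ ξ
      have h' : ∀ i, ∃ y, ((L.d (n - 1) n).hom.app (op (U i))).hom y =
          ((L.X n).obj.map (c.s i).op).hom ((((KInjSections.preCx L).iCycles n).app (op ⊤)).hom z) := fun i => by
        obtain ⟨y, hy⟩ := (hker n (U i) _).1 ((ConcreteCategory.congr_hom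
          ((π n).naturality (homOfLE le_top : U i ⟶ (⊤ : Opens X)).op) z).trans (h i))
        refine ⟨y, hy.trans ?_⟩
        rw [Subsingleton.elim (c.s i) (homOfLE le_top)]
        exact ConcreteCategory.congr_hom (((KInjSections.preCx L).iCycles n).naturality
          (homOfLE le_top : U i ⟶ (⊤ : Opens X)).op) z
      choose y hy using h'
      obtain ⟨y', hy'⟩ := exists_comp0 U (L.X (n - 1)).obj y
      refine ⟨_, y', ConcreteCategory.congr_hom (res0Hom_d c (L.X n)) _, ⟨z, rfl⟩, ?_⟩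
      refine comp0_ext U _ (funext fun i => ?_)
      refine (comp0_map U _ (L.d (n - 1) n).hom y' i).trans ((congrArg _ (congrFun hy' i)).trans ?_)
      exact (hy i).trans (congrFun (comp0_res0Hom c (L.X n) _) i).symm
  · let Z := (KInjSections.preCx L).cycles (n - p)
    let g := (Cx U).map (π (n - p))
    let inc := ((Cx U).obj Z).iCycles p ≫ ((Cx U).map ((KInjSections.preCx L).iCycles (n - p))).f p
    have hinj : ∀ V, Function.Injective (((KInjSections.preCx L).iCycles (n - p)).app (op V)).hom := fun V =>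
      (AddCommGrpCat.mono_iff_injective _).1 inferInstance
    have hu : ∀ u, (((Cx U).map (π (n - p))).f p).hom ((((Cx U).obj Z).iCycles p).hom u) =
        (((Cx U).obj (CohCx.HDUPresheaf K (n - p))).iCycles p).hom ((HomologicalComplex.cyclesMap g p).hom u) :=
      fun u => (ConcreteCategory.congr_hom (HomologicalComplex.cyclesMap_i g p) u).symm
    refine D.isSubquotient p (m := n - p) (by omega) inc.hom (fun u => ⟨?_, ?_⟩) (fun x hx => ?_)
      (((Cx U).obj Z).homologyπ p ≫ HomologicalComplex.homologyMap g p).hom (fun u hp hψ => ?_)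
      (fun u p' hp hψ => ?_)
    · refine (cmap_d U _ p (p + 1) _).trans ((congrArg _ ?_).trans (map_zero _))
      exact ConcreteCategory.congr_hom (((Cx U).obj Z).iCycles_d p (p + 1)) u
    · exact cmap_cmap_eq_zero U _ _ ((KInjSections.preCx L).iCycles_d (n - p) (n - p + 1)) p _
    · have hl : ∀ i, ∃ t, (((KInjSections.preCx L).iCycles (n - p)).app (op (∏ᶜ fun k => U (i k)))).hom t =
          cev U _ p i x := fun i => KInjSections.exists_cycle L (n - p) _ _ (by
        refine (cev_map U _ (L.d (n - p) (n - p + 1)).hom p i x).symm.trans ?_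
        exact (congrArg (cev U _ p i) hx.2).trans (map_zero _))
      obtain ⟨u, hu'⟩ := exists_lift_cmap U ((KInjSections.preCx L).iCycles (n - p)) p x hl
      have hdu : (((Cx U).obj Z).d p (p + 1)).hom u = 0 := cmap_injective U _ (p + 1) hinj
        (((cmap_d U _ p (p + 1) u).symm.trans ((congrArg _ hu').trans hx.1)).trans (map_zero _).symm)
      obtain ⟨v, rfl⟩ := exists_iCycles_eq p u hdu
      exact ⟨v, hu'⟩
    · subst hp
      have h0 := homologyπ_zero_eq_zero _ ((ConcreteCategory.congr_hom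
        (HomologicalComplex.homologyπ_naturality g 0) u).symm.trans hψ)
      have h1 := (hu u).trans ((congrArg _ h0).trans (map_zero _))
      refine exists_lift_cmap U (L.d _ (n - (0 : ℕ))).hom 0 _ fun i => ?_
      obtain ⟨y, hy⟩ := (hker _ _ (cev U Z 0 i ((((Cx U).obj Z).iCycles 0).hom u))).1
        ((cev_map U Z _ 0 i _).symm.trans ((congrArg (cev U _ 0 i) h1).trans (map_zero _)))
      exact ⟨y, hy.trans (cev_map U Z _ 0 i _).symm⟩
    · subst hp
      obtain ⟨e, he⟩ := homologyπ_eq_zero p' _ ((ConcreteCategory.congr_hom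
        (HomologicalComplex.homologyπ_naturality g (p' + 1)) u).symm.trans hψ)
      obtain ⟨z, rfl⟩ := exists_lift_cmap U (π (n - (p' + 1 : ℕ))) p' e (fun i => hsurj _ _ _)
      let v := (((Cx U).obj Z).iCycles (p' + 1)).hom u - (((Cx U).obj Z).d p' (p' + 1)).hom z
      have hv : (((Cx U).map (π (n - (p' + 1 : ℕ)))).f (p' + 1)).hom v = 0 := by
        rw [map_sub, sub_eq_zero]
        exact (hu u).trans (he.symm.trans (cmap_d U _ p' (p' + 1) z))
      obtain ⟨w, hw⟩ := exists_lift_cmap U (L.d (n - (p' + 1 : ℕ) - 1) (n - (p' + 1 : ℕ))).hom (p' + 1)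
        ((((Cx U).map ((KInjSections.preCx L).iCycles (n - (p' + 1 : ℕ)))).f (p' + 1)).hom v) fun i => by
          obtain ⟨y, hy⟩ := (hker _ _ (cev U Z (p' + 1) i v)).1
            ((cev_map U Z _ (p' + 1) i v).symm.trans ((congrArg (cev U _ (p' + 1) i) hv).trans (map_zero _)))
          exact ⟨y, hy.trans (cev_map U Z _ (p' + 1) i v).symm⟩
      refine ⟨(((Cx U).map ((KInjSections.preCx L).iCycles (n - (p' + 1 : ℕ)))).f p').hom z, w,
        cmap_cmap_eq_zero U _ _ ((KInjSections.preCx L).iCycles_d _ _) p' z, heq_of_eq ?_⟩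
      refine (congrArg₂ (· + ·) (cmap_d U _ p' (p' + 1) z) hw).trans ?_
      exact (map_add _ _ _).symm.trans (congrArg _ (add_sub_cancel _ _))

end Groth.Agent.CechSSFilt
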